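import Mathlib

/-!
Symmetric bilinear forms over three elements: values represented orthogonally to a family, the vectors used to show
that reflection classes are primitive, and the standard frame for determinant one.
-/

set_option autoImplicit false
set_option linter.unusedSectionVars false

namespace Cfsg.Lib.Fischer.Climb

open Matrix

/-- The space. -/
abbrev V3 (n : ℕ) : Type := Fin n → ZMod 3

variable {n : ℕ} {B : LinearMap.BilinForm (ZMod 3) (V3 n)}

theorem add_self_zero : ∀ a : ZMod 3, a + a = 0 → a = 0 := by decide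

theorem sq_one : ∀ a : ZMod 3, a * a ≠ 0 → a * a = 1 := by decide

theorem three_cases : ∀ a : ZMod 3, a = 0 ∨ a = 1 ∨ a = -1 := by decide

/-- The members of an orthogonal family have norm different from zero. -/
structure Frame (B : LinearMap.BilinForm (ZMod 3) (V3 n)) {k : ℕ} (e : Fin k → V3 n) : Prop where
  orth : ∀ i j, i ≠ j → B (e i) (e j) = 0
  norm : ∀ i, B (e i) (e i) ≠ 0

theorem Frame.snoc (hs : B.IsSymm) {k : ℕ} {e : Fin k → V3 n} (F : Frame B e) {u : V3 n}
    (hu : ∀ i, B u (e i) = 0) (h0 : B u u ≠ 0) : Frame B (Fin.snoc e u) := by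
  refine ⟨fun i j => ?_, fun i => ?_⟩
  · induction i using Fin.lastCases with
    | last =>
      induction j using Fin.lastCases with
      | last => exact fun h => absurd rfl h
      | cast j => intro _; simp only [Fin.snoc_last, Fin.snoc_castSucc, hu]
    | cast i =>
      induction j using Fin.lastCases with
      | last => intro _; simp only [Fin.snoc_last, Fin.snoc_castSucc, hs.eq (e i) u, hu]
      | cast j =>
        intro h
        simp only [Fin.snoc_castSucc]
        exact F.orth i j fun e => h (by rw [e])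
  · induction i using Fin.lastCases with
    | last => simpa only [Fin.snoc_last] using h0
    | cast i => simpa only [Fin.snoc_castSucc] using F.norm i

/-- Coordinates with respect to a frame. -/
theorem Frame.apply_sum {k : ℕ} {e : Fin k → V3 n} (F : Frame B e) (a : Fin k → ZMod 3) (j : Fin k) :
    B (∑ i, a i • e i) (e j) = a j * B (e j) (e j) := by
  rw [map_sum, LinearMap.sum_apply, Finset.sum_eq_single j]
  · rw [map_smul, LinearMap.smul_apply, smul_eq_mul]
  · intro i _ hij
    rw [map_smul, LinearMap.smul_apply, F.orth i j hij, smul_zero]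
  · simp

/-- Fewer orthogonal vectors than the dimension leave an anisotropic vector orthogonal to them. -/
theorem exists_anisotropic (hs : B.IsSymm) (hB : B.Nondegenerate) {k : ℕ} {e : Fin k → V3 n} (F : Frame B e)
    (hk : k < n) : ∃ u, (∀ i, B u (e i) = 0) ∧ B u u ≠ 0 := by
  haveI : Fact (Nat.Prime 3) := ⟨Nat.prime_three⟩
  by_contra hcon
  push Not at hcon
  let co : V3 n → Fin k → ZMod 3 := fun z i => B z (e i) * (B (e i) (e i))⁻¹
  have hpi : ∀ z j, B (z - ∑ i, co z i • e i) (e j) = 0 := fun z j => by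
    rw [map_sub, LinearMap.sub_apply, F.apply_sum]
    show B z (e j) - B z (e j) * (B (e j) (e j))⁻¹ * B (e j) (e j) = 0
    rw [mul_assoc, inv_mul_cancel₀ (F.norm j), mul_one, sub_self]
  have hzero : ∀ u w, (∀ i, B u (e i) = 0) → (∀ i, B w (e i) = 0) → B u w = 0 := by
    intro u w hu hw
    have h := hcon (u + w) fun i => by rw [map_add, LinearMap.add_apply, hu, hw, add_zero]
    simp only [map_add, LinearMap.add_apply, hcon u hu, hcon w hw, hs.eq w u, zero_add, add_zero] at h
    exact add_self_zero _ h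
  have hspan : ∀ z, z = ∑ i, co z i • e i := by
    intro z
    rw [← sub_eq_zero]
    refine hB.1 _ fun w => ?_
    have h0 : B (z - ∑ i, co z i • e i) (∑ i, co w i • e i) = 0 := by
      rw [map_sum]
      exact Finset.sum_eq_zero fun i _ => by rw [map_smul, hpi, smul_zero]
    rw [show w = (w - ∑ i, co w i • e i) + ∑ i, co w i • e i by abel, map_add, h0, add_zero]
    exact hzero _ _ (hpi z) (hpi w)
  have hsurj : Function.Surjective fun a : Fin k → ZMod 3 => ∑ i, a i • e i := fun z => ⟨co z, (hspan z).symm⟩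
  have hcard := Fintype.card_le_of_surjective _ hsurj
  simp only [Fintype.card_pi, ZMod.card, Finset.prod_const, Finset.card_univ, Fintype.card_fin] at hcard
  exact absurd hcard (not_le.2 (Nat.pow_lt_pow_right (by norm_num) hk))

/-- Two orthogonal vectors to spare represent every value different from zero. -/
theorem exists_value (hs : B.IsSymm) (hB : B.Nondegenerate) {k : ℕ} {e : Fin k → V3 n} (F : Frame B e)
    (hk : k + 1 < n) {a : ZMod 3} (ha : a ≠ 0) : ∃ u, (∀ i, B u (e i) = 0) ∧ B u u = a := by
  obtain ⟨u, hu, hu0⟩ := exists_anisotropic hs hB F (by omega)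
  obtain ⟨w, hw, hw0⟩ := exists_anisotropic hs hB (F.snoc hs hu hu0) hk
  have hw' : ∀ i, B w (e i) = 0 := fun i => by simpa only [Fin.snoc_castSucc] using hw (Fin.castSucc i)
  have hwu : B w u = 0 := by simpa only [Fin.snoc_last] using hw (Fin.last k)
  by_cases h1 : B u u = a
  · exact ⟨u, hu, h1⟩
  by_cases h2 : B w w = a
  · exact ⟨w, hw', h2⟩
  refine ⟨u + w, fun i => by rw [map_add, LinearMap.add_apply, hu, hw', add_zero], ?_⟩
  have h3 : B (u + w) (u + w) = B u u + B w w := by
    simp only [map_add, LinearMap.add_apply, hwu, hs.eq u w, add_zero, zero_add]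
  rw [h3]
  exact (by decide : ∀ p q a : ZMod 3, p ≠ 0 → q ≠ 0 → a ≠ 0 → p ≠ a → q ≠ a → p + q = a) _ _ _ hu0 hw0 ha h1 h2

theorem frame_one {v : V3 n} (hv : B v v ≠ 0) : Frame B ![v] :=
  ⟨fun i j h => absurd (Subsingleton.elim i j) h, fun i => by fin_cases i; exact hv⟩

theorem frame_two (hs : B.IsSymm) {v w : V3 n} (hv : B v v ≠ 0) (hw : B w w ≠ 0) (hvw : B v w = 0) :
    Frame B ![v, w] := by
  refine ⟨fun i j h => ?_, fun i => by fin_cases i <;> assumption⟩
  fin_cases i <;> fin_cases j
  · exact absurd rfl h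
  · exact hvw
  · exact (hs.eq w v).trans hvw
  · exact absurd rfl h

theorem frame_three (hs : B.IsSymm) {v w x : V3 n} (hv : B v v ≠ 0) (hw : B w w ≠ 0) (hx : B x x ≠ 0)
    (hvw : B v w = 0) (hvx : B v x = 0) (hwx : B w x = 0) : Frame B ![v, w, x] := by
  refine ⟨fun i j h => ?_, fun i => by fin_cases i <;> assumption⟩
  fin_cases i <;> fin_cases j
  · exact absurd rfl h
  · exact hvw
  · exact hvx
  · exact (hs.eq w v).trans hvw
  · exact absurd rfl h
  · exact hwx
  · exact (hs.eq x v).trans hvx
  · exact (hs.eq x w).trans hwx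
  · exact absurd rfl h

/-- A vector of norm one orthogonal to one of norm one. -/
theorem exists_orth (hs : B.IsSymm) (hB : B.Nondegenerate) (hn : 3 ≤ n) {v : V3 n} (hv : B v v = 1) :
    ∃ u, B u u = 1 ∧ B v u = 0 := by
  obtain ⟨u, hu, h1⟩ := exists_value hs hB (frame_one (v := v) (by rw [hv]; decide)) (by omega) one_ne_zero
  exact ⟨u, h1, (hs.eq v u).trans (hu 0)⟩

/-- Two orthogonal vectors of norm one are both met by a third. -/
theorem exists_meet (hs : B.IsSymm) (hB : B.Nondegenerate) (hn : 4 ≤ n) {v w : V3 n} (hv : B v v = 1)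
    (hw : B w w = 1) (hvw : B v w = 0) : ∃ u, B u u = 1 ∧ B v u ≠ 0 ∧ B w u ≠ 0 := by
  obtain ⟨x, hx, h2⟩ := exists_value hs hB (frame_two hs (v := v) (w := w) (by rw [hv]; decide) (by rw [hw]; decide) hvw)
    (by omega) (a := -1) (by decide)
  have hxv : B x v = 0 := hx 0
  have hxw : B x w = 0 := hx 1
  refine ⟨v + w + x, ?_, ?_, ?_⟩ <;>
    simp only [map_add, LinearMap.add_apply, hv, hw, h2, hvw, hs.eq w v, hxv, hxw, hs.eq v x, hs.eq w x]
  all_goals decide

/-- Of two orthogonal vectors of norm one a third is orthogonal to the first only. -/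
theorem exists_split (hs : B.IsSymm) (hB : B.Nondegenerate) (hn : 5 ≤ n) {v w : V3 n} (hv : B v v = 1)
    (hw : B w w = 1) (hvw : B v w = 0) : ∃ u, B u u = 1 ∧ B v u = 0 ∧ B w u ≠ 0 ∧ ∀ a : ZMod 3, u ≠ a • w := by
  have hv0 : B v v ≠ 0 := by rw [hv]; decide
  have hw0 : B w w ≠ 0 := by rw [hw]; decide
  obtain ⟨x, hx, h1⟩ := exists_value hs hB (frame_two hs hv0 hw0 hvw) (by omega) one_ne_zero
  have hxv : B x v = 0 := hx 0
  have hxw : B x w = 0 := hx 1
  obtain ⟨y, hy, h2⟩ := exists_value hs hB (frame_three hs hv0 hw0 (x := x) (by rw [h1]; decide) hvw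
    ((hs.eq v x).trans hxv) ((hs.eq w x).trans hxw)) (by omega) (a := -1) (by decide)
  have hyv : B y v = 0 := hy 0
  have hyw : B y w = 0 := hy 1
  have hyx : B y x = 0 := hy 2
  refine ⟨w + x + y, ?_, ?_, ?_, fun a e => ?_⟩
  · simp only [map_add, LinearMap.add_apply, hw, h1, h2, hxw, hs.eq w x, hyw, hs.eq w y, hyx, hs.eq x y]
    decide
  · simp only [map_add, hvw, hs.eq v x, hxv, hs.eq v y, hyv, add_zero]
  · simp only [map_add, hw, hs.eq w x, hxw, hs.eq w y, hyw, add_zero]
    exact one_ne_zero
  · have := congrArg (fun z => B z x) e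
    simp only [map_add, map_smul, LinearMap.add_apply, LinearMap.smul_apply, hs.eq w x, hxw, h1, hyx,
      smul_eq_mul, mul_zero, zero_add, add_zero] at this
    exact one_ne_zero this

/-- For two vectors that are not orthogonal: one orthogonal to the first only, and one orthogonal to both. -/
theorem exists_skew (hs : B.IsSymm) (hB : B.Nondegenerate) (hn : 5 ≤ n) {v w : V3 n} (hv : B v v = 1)
    (hw : B w w = 1) (hvw : B v w ≠ 0) (hne : w ≠ B v w • v) :
    (∃ u, B u u = 1 ∧ B v u = 0 ∧ B w u ≠ 0) ∧ ∃ u, B u u = 1 ∧ B v u = 0 ∧ B w u = 0 := by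
  set b := B v w with hb
  have hbb : b * b = 1 := (by decide : ∀ b : ZMod 3, b ≠ 0 → b * b = 1) b hvw
  set r := b • w - v with hr
  have hwr : w = b • (r + v) := by rw [hr, sub_add_cancel, smul_smul, hbb, one_smul]
  have hrv : B r v = 0 := by
    simp only [hr, map_sub, map_smul, LinearMap.sub_apply, LinearMap.smul_apply, smul_eq_mul, hs.eq w v, ← hb,
      hv, hbb, sub_self]
  have hrr : B r r = 0 := by
    have e : B r r = b * b * B w w - b * B w v - (b * B v w - B v v) := by
      simp only [hr, map_sub, map_smul, LinearMap.sub_apply, LinearMap.smul_apply, smul_eq_mul]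
      ring
    rw [e, hs.eq w v, ← hb, hw, hv, mul_one, hbb]
    decide
  have hr0 : r ≠ 0 := fun e => hne (by rw [hwr, e, zero_add])
  obtain ⟨t, ht⟩ : ∃ t, B r t = 1 := by
    by_contra h
    push Not at h
    refine hr0 (hB.1 r fun t => ?_)
    rcases three_cases (B r t) with e | e | e
    · exact e
    · exact absurd e (h t)
    · exact absurd (show B r (-t) = 1 by rw [map_neg, e, neg_neg]) (h (-t))
  set t1 := t - B t v • v with ht1
  have ht1v : B t1 v = 0 := by
    simp only [ht1, map_sub, map_smul, LinearMap.sub_apply, LinearMap.smul_apply, smul_eq_mul, hv, mul_one, sub_self]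
  have hrt1 : B r t1 = 1 := by simp only [ht1, map_sub, map_smul, smul_eq_mul, hrv, mul_zero, sub_zero, ht]
  set s := t1 + B t1 t1 • r with hs'
  have hsr : B r s = 1 := by simp only [hs', map_add, map_smul, smul_eq_mul, hrt1, hrr, mul_zero, add_zero]
  have hsv : B s v = 0 := by
    simp only [hs', map_add, map_smul, LinearMap.add_apply, LinearMap.smul_apply, smul_eq_mul, hrv, ht1v, mul_zero,
      add_zero]
  have hss : B s s = 0 := by
    simp only [hs', map_add, map_smul, LinearMap.add_apply, LinearMap.smul_apply, smul_eq_mul, hrt1, hrr,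
      hs.eq t1 r, mul_one, mul_zero, add_zero]
    exact (by decide : ∀ a : ZMod 3, a + a + a = 0) _
  constructor
  · refine ⟨r + r + s, ?_, ?_, ?_⟩
    · simp only [map_add, LinearMap.add_apply, hrr, hsr, hs.eq s r, hss]
      decide
    · simp only [map_add, hs.eq v r, hrv, hs.eq v s, hsv, add_zero]
    · rw [hwr]
      simp only [map_add, map_smul, LinearMap.add_apply, LinearMap.smul_apply, smul_eq_mul, hrr, hsr, hs.eq v r, hrv,
        hs.eq v s, hsv, zero_add, add_zero, mul_zero, mul_one]
      exact hvw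
  · have hp : B (r + s) (r + s) = -1 := by
      simp only [map_add, LinearMap.add_apply, hrr, hsr, hs.eq s r, hss]; decide
    have hm : B (r - s) (r - s) = 1 := by
      simp only [map_sub, LinearMap.sub_apply, hrr, hsr, hs.eq s r, hss]; decide
    have hpm : B (r + s) (r - s) = 0 := by
      simp only [map_add, map_sub, LinearMap.add_apply, hrr, hsr, hs.eq s r, hss]; decide
    obtain ⟨u, hu, h1⟩ := exists_value hs hB (frame_three hs (v := v) (w := r + s) (x := r - s)
      (by rw [hv]; decide) (by rw [hp]; decide) (by rw [hm]; decide)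
      (by rw [map_add, hs.eq v r, hrv, hs.eq v s, hsv, add_zero])
      (by rw [map_sub, hs.eq v r, hrv, hs.eq v s, hsv, sub_zero]) hpm) (by omega) one_ne_zero
    have huv : B u v = 0 := hu 0
    have hup : B u (r + s) = 0 := hu 1
    have hum : B u (r - s) = 0 := hu 2
    have hur : B u r = 0 := by
      rw [map_add] at hup
      rw [map_sub] at hum
      exact (by decide : ∀ a b : ZMod 3, a + b = 0 → a - b = 0 → a = 0) _ _ hup hum
    refine ⟨u, h1, (hs.eq v u).trans huv, ?_⟩
    rw [hwr, map_smul, LinearMap.smul_apply, map_add, LinearMap.add_apply, hs.eq r u, hur, hs.eq v u, huv,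
      add_zero, smul_zero]

theorem exists_units (hs : B.IsSymm) (hB : B.Nondegenerate) : ∀ k, k + 1 ≤ n →
    ∃ e : Fin k → V3 n, ∀ i j, B (e i) (e j) = if i = j then 1 else 0
  | 0, _ => ⟨Fin.elim0, fun i => i.elim0⟩
  | k + 1, h => by
    obtain ⟨e, he⟩ := exists_units hs hB k (by omega)
    have F : Frame B e := ⟨fun i j hij => by rw [he, if_neg hij], fun i => by rw [he, if_pos rfl]; decide⟩
    obtain ⟨u, hu, h1⟩ := exists_value hs hB F (by omega) one_ne_zero
    refine ⟨Fin.snoc e u, fun i j => ?_⟩
    induction i using Fin.lastCases with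
    | last =>
      induction j using Fin.lastCases with
      | last => simp only [Fin.snoc_last, h1, if_pos]
      | cast j => simp only [Fin.snoc_last, Fin.snoc_castSucc, hu, if_neg (Fin.castSucc_lt_last j).ne']
    | cast i =>
      induction j using Fin.lastCases with
      | last => simp only [Fin.snoc_last, Fin.snoc_castSucc, hs.eq (e i) u, hu, if_neg (Fin.castSucc_lt_last i).ne]
      | cast j => simp only [Fin.snoc_castSucc, he, Fin.castSucc_inj]

/-- A form of determinant one is the sum of squares. -/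
theorem exists_standard (hs : B.IsSymm) (hB : B.Nondegenerate) (hdet : (LinearMap.BilinForm.toMatrix' B).det = 1)
    (hn : 1 ≤ n) : ∃ φ : V3 n → V3 n, Function.Bijective φ ∧ ∀ a b, B (φ a) (φ b) = ∑ i, a i * b i := by
  haveI : Fact (Nat.Prime 3) := ⟨Nat.prime_three⟩
  obtain ⟨m, rfl⟩ : ∃ m, n = m + 1 := ⟨n - 1, by omega⟩
  obtain ⟨e₀, he₀⟩ := exists_units hs hB m le_rfl
  have F₀ : Frame B e₀ := ⟨fun i j hij => by rw [he₀, if_neg hij], fun i => by rw [he₀, if_pos rfl]; decide⟩
  obtain ⟨u, hu, hu0⟩ := exists_anisotropic hs hB F₀ (by omega)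
  set e : Fin (m + 1) → V3 (m + 1) := Fin.snoc e₀ u with he
  have F : Frame B e := F₀.snoc hs hu hu0
  set d : Fin (m + 1) → ZMod 3 := fun i => B (e i) (e i) with hd
  set E : Matrix (Fin (m + 1)) (Fin (m + 1)) (ZMod 3) := Matrix.of fun i j => e j i with hE
  have hM : Eᵀ * LinearMap.BilinForm.toMatrix' B * E = Matrix.diagonal d := by
    ext i j
    have hB' : B (e i) (e j) = ∑ a, ∑ b, e i a * LinearMap.BilinForm.toMatrix' B a b * e j b := by
      conv_lhs => rw [← Matrix.toBilin'_toMatrix' B, Matrix.toBilin'_apply]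
    rw [Matrix.mul_apply]
    simp only [Matrix.mul_apply, Finset.sum_mul, Matrix.transpose_apply, hE, Matrix.of_apply]
    rw [Finset.sum_comm, ← hB']
    by_cases hij : i = j
    · subst hij; rw [Matrix.diagonal_apply_eq]
    · rw [Matrix.diagonal_apply_ne _ hij, F.orth i j hij]
  have hdd := congrArg Matrix.det hM
  rw [Matrix.det_mul, Matrix.det_mul, Matrix.det_transpose, hdet, mul_one, Matrix.det_diagonal] at hdd
  have hlast : d (Fin.last m) = 1 := by
    rw [Fin.prod_univ_castSucc, Finset.prod_eq_one (fun i _ => by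
      show B (e _) (e _) = 1
      simp only [he, Fin.snoc_castSucc, he₀, if_pos]), one_mul] at hdd
    have h0 : d (Fin.last m) ≠ 0 := F.norm _
    rw [← hdd] at h0 ⊢
    exact sq_one _ h0
  have hone : ∀ i, B (e i) (e i) = 1 := fun i => by
    induction i using Fin.lastCases with
    | last => exact hlast
    | cast i => simp only [he, Fin.snoc_castSucc, he₀, if_pos]
  refine ⟨fun a => ∑ i, a i • e i, ?_, fun a b => ?_⟩
  · refine (Fintype.bijective_iff_injective_and_card _).2 ⟨fun a b h => funext fun j => ?_, rfl⟩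
    have := congrArg (fun z => B z (e j)) h
    simpa only [F.apply_sum, hone, mul_one] using this
  · rw [map_sum (B (∑ i, a i • e i)) (fun i => b i • e i)]
    refine Finset.sum_congr rfl fun j _ => ?_
    rw [map_smul, F.apply_sum, hone, mul_one, smul_eq_mul, mul_comm]

end Cfsg.Lib.Fischer.Climb
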