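import Cfsg.Agent.Fischer.Iface
import Cfsg.Agent.Fischer.Climb.Form

/-!
Counts of vectors that are checked by evaluation: norm one over three elements, isotropic over four.
-/

set_option autoImplicit false
set_option maxRecDepth 100000

namespace Cfsg.Lib.Fischer.Climb

open Cfsg.Lib.PrimeGraph (KQuad)

theorem squares_card : (Finset.univ.filter fun a : V3 6 => ∑ i, a i * a i = 1).card = 252 ∧
    (Finset.univ.filter fun a : V3 7 => ∑ i, a i * a i = 1).card = 702 ∧
    (Finset.univ.filter fun a : V3 8 => ∑ i, a i * a i = 1).card = 2160 := by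
  refine ⟨?_, ?_, ?_⟩ <;> decide +kernel

/-- The isotropy condition of dimension six. -/
abbrev Iso6 (v : Fin 6 → KQuad) : Prop := v ≠ 0 ∧ herm v v = 0

/-- The reference point. -/
def v6 : Fin 6 → KQuad := ![1, 1, 0, 0, 0, 0]

/-- The second reference point. -/
def w6 : Fin 6 → KQuad := ![1, KQuad.ofCode 2, 0, 0, 0, 0]

theorem iso6_count : (Finset.univ.filter Iso6).card = 2079 ∧
    (Finset.univ.filter fun v => Iso6 v ∧ herm v6 v = 0 ∧ ∀ a : KQuad, v ≠ a • v6).card = 540 := by
  refine ⟨?_, ?_⟩ <;> decide +kernel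

theorem ref_facts : Iso6 v6 ∧ Iso6 w6 ∧ herm v6 w6 ≠ 0 ∧
    ∀ a b : KQuad, a + b = 0 → a + b * KQuad.ofCode 2 ^ 2 = 0 → a = 0 ∧ b = 0 := by
  decide +kernel

end Cfsg.Lib.Fischer.Climb
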