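import Cfsg.Agent.Fischer.Branch
import Cfsg.Agent.Fischer.Climb.Form
import Cfsg.Agent.Fischer.Climb.Counts

/-!
Labelled classes: counting through labels, and the properties that reflection classes and their triples have.
-/

set_option autoImplicit false
set_option linter.unusedSectionVars false
set_option maxRecDepth 100000

namespace Cfsg.Lib.Fischer.Climb

open Cfsg Subgroup Cfsg.Lib.ThreeTr
open Cfsg.Lib.PrimeGraph (KQuad)

universe u v

variable {G : Type u} [Group G] {S : Set G}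

theorem ne_of_not_commute {x y : G} (h : ¬ Commute x y) : x ≠ y := fun e => h (e ▸ Commute.refl x)

section Count

variable {F V : Type} [Field F] [AddCommGroup V] [Module F V] {P : V → Prop} {β : V → V → F} {f : G → V}

/-- Members with a property of the label, against the vectors with that property. -/
theorem card_labels [Fintype F] (hc : Coords S P β f) (h0 : ∀ v, P v → v ≠ 0)
    (hP : ∀ v, ∀ a : F, a ≠ 0 → P v → P (a • v)) {R : V → Prop}
    (hR : ∀ v, ∀ a : F, a ≠ 0 → R v → R (a • v)) {T : Set G} (hT : ∀ x, x ∈ T ↔ x ∈ S ∧ R (f x)) :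
    T.ncard * (Fintype.card F - 1) = Nat.card {v : V // P v ∧ R v} := by
  classical
  rw [← Nat.card_coe_set_eq, ← Fintype.card_units, ← Nat.card_eq_fintype_card, ← Nat.card_prod]
  refine Nat.card_congr (Equiv.ofBijective (fun p : T × Fˣ => ⟨(p.2 : F) • f p.1.1,
    hP _ _ p.2.ne_zero (hc.mem _ ((hT _).1 p.1.2).1), hR _ _ p.2.ne_zero ((hT _).1 p.1.2).2⟩) ⟨?_, ?_⟩)
  · rintro ⟨⟨x, hx⟩, a⟩ ⟨⟨y, hy⟩, b⟩ e
    have e' : (a : F) • f x = (b : F) • f y := congrArg Subtype.val e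
    have hxy : x = y := hc.inj x ((hT _).1 hx).1 y ((hT _).1 hy).1 ((b : F)⁻¹ * a)
      (by rw [mul_smul, e', inv_smul_smul₀ b.ne_zero])
    subst hxy
    have hf0 := h0 _ (hc.mem _ ((hT _).1 hx).1)
    have h : ((a : F) - b) • f x = 0 := by rw [sub_smul, e', sub_self]
    exact Prod.ext rfl (Units.ext (sub_eq_zero.1 ((smul_eq_zero.1 h).resolve_right hf0)))
  · rintro ⟨v, hv, hr⟩
    obtain ⟨x, hx, a, ha, rfl⟩ := hc.surj v hv
    refine ⟨⟨⟨x, (hT x).2 ⟨hx, ?_⟩⟩, Units.mk0 a ha⟩, rfl⟩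
    simpa [smul_smul, inv_mul_cancel₀ ha] using hR _ a⁻¹ (inv_ne_zero ha) hr

end Count

/-! ### What the traces have -/

/-- Linked, twin-free, every member with a neighbour and a member not commuting with it. -/
structure Good (S : Set G) : Prop where
  link : ∀ x ∈ S, ∀ y ∈ S, Relation.ReflTransGen (StepIn S) x y
  sep : ∀ x ∈ S, ∃ y ∈ S, ¬ Commute x y
  nbr : ∀ x ∈ S, ∃ y, y ∈ perp S x
  vfree : TwinFree S
  wfree : ∀ x ∈ S, ∀ y ∈ S, WRel S x y → x = y

theorem sq_smul_three : ∀ a : ZMod 3, a ≠ 0 → a * a = 1 := by decide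

section Reflections

variable {n : ℕ} {δ : ZMod 3}

theorem rLike_pre {B : LinearMap.BilinForm (ZMod 3) (V3 n)} {f : G → V3 n}
    (hf : Coords S (fun v => B v v = 1) (fun v w => B v w) f) {u : V3 n} (hu : B u u = 1) :
    ∃ y ∈ S, ∀ v, B v (f y) = 0 ↔ B v u = 0 := by
  haveI : Fact (Nat.Prime 3) := ⟨Nat.prime_three⟩
  obtain ⟨y, hy, a, ha, rfl⟩ := hf.surj u hu
  exact ⟨y, hy, fun v => by rw [map_smul, smul_eq_mul, mul_eq_zero, or_iff_right ha]⟩

/-- Reflection classes in dimension five or more are good, and their commuting graphs are connected. -/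
theorem rLike_good (hn : 5 ≤ n) (h : RLike S n δ) :
    Good S ∧ (∀ x ∈ S, ∀ y ∈ S, Relation.ReflTransGen (fun a b => b ∈ S ∧ Commute a b) x y) := by
  haveI : Fact (Nat.Prime 3) := ⟨Nat.prime_three⟩
  obtain ⟨B, hs, hB, -, f, hf⟩ := h
  have hstep : ∀ {x y}, x ∈ S → y ∈ S → B (f x) (f y) ≠ 0 → (x ≠ y → ¬ Commute x y) := fun hx hy h hne hc =>
    h ((hf.comm _ hx _ hy hne).1 hc)
  have horth : ∀ {x y}, x ∈ S → y ∈ S → B (f x) (f y) = 0 → x ≠ y ∧ Commute x y := fun {x y} hx hy h => by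
    have hne : x ≠ y := fun e => by rw [← e, hf.mem x hx] at h; exact one_ne_zero h
    exact ⟨hne, (hf.comm _ hx _ hy hne).2 h⟩
  have hmeet : ∀ x ∈ S, ∀ y ∈ S, B (f x) (f y) = 0 → ∃ z ∈ S, ¬ Commute x z ∧ ¬ Commute z y := by
    intro x hx y hy h0
    obtain ⟨u, hu, h1, h2⟩ := exists_meet hs hB (by omega) (hf.mem x hx) (hf.mem y hy) h0
    obtain ⟨z, hz, hzv⟩ := rLike_pre hf hu
    have hxz : x ≠ z := fun e => h2 (by rw [← hzv (f y), ← e, hs.eq]; exact h0)
    have hyz : y ≠ z := fun e => h1 (by rw [← hzv (f x), ← e]; exact h0)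
    exact ⟨z, hz, hstep hx hz (fun e => h1 ((hzv _).1 e)) hxz,
      fun hc => hstep hy hz (fun e => h2 ((hzv _).1 e)) hyz hc.symm⟩
  have hnbr : ∀ x ∈ S, ∃ y ∈ S, B (f x) (f y) = 0 := by
    intro x hx
    obtain ⟨u, hu, h0⟩ := exists_orth hs hB (by omega) (hf.mem x hx)
    obtain ⟨y, hy, hyv⟩ := rLike_pre hf hu
    exact ⟨y, hy, (hyv _).2 h0⟩
  have hskew : ∀ x ∈ S, ∀ y ∈ S, ¬ Commute x y →
      (∃ z ∈ S, B (f x) (f z) = 0 ∧ B (f y) (f z) ≠ 0) ∧ ∃ z ∈ S, B (f x) (f z) = 0 ∧ B (f y) (f z) = 0 := by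
    intro x hx y hy hnc
    have hne := ne_of_not_commute hnc
    obtain ⟨⟨u, hu, h1, h2⟩, w, hw, h3, h4⟩ := exists_skew hs hB hn (hf.mem x hx) (hf.mem y hy)
      (fun e => hnc ((hf.comm x hx y hy hne).2 e)) (fun e => hne (hf.inj x hx y hy _ e))
    obtain ⟨z, hz, hzv⟩ := rLike_pre hf hu
    obtain ⟨t, ht, htv⟩ := rLike_pre hf hw
    exact ⟨⟨z, hz, (hzv _).2 h1, fun e => h2 ((hzv _).1 e)⟩, t, ht, (htv _).2 h3, (htv _).2 h4⟩
  refine ⟨⟨fun x hx y hy => ?_, fun x hx => ?_, fun x hx => ?_, fun x hx y hy hV => ?_, fun x hx y hy hW => ?_⟩,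
    fun x hx y hy => ?_⟩
  · by_cases hc : Commute x y
    · by_cases hne : x = y
      · rw [hne]
      obtain ⟨z, hz, h1, h2⟩ := hmeet x hx y hy ((hf.comm x hx y hy hne).1 hc)
      exact (Relation.ReflTransGen.single ⟨hx, hz, h1⟩).tail ⟨hz, hy, h2⟩
    · exact Relation.ReflTransGen.single ⟨hx, hy, hc⟩
  · obtain ⟨y, hy, h0⟩ := hnbr x hx
    obtain ⟨z, hz, h1, -⟩ := hmeet x hx y hy h0
    exact ⟨z, hz, h1⟩
  · obtain ⟨y, hy, h0⟩ := hnbr x hx
    exact ⟨y, hy, (horth hx hy h0).1.symm, (horth hx hy h0).2⟩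
  · by_contra hne
    have hc : Commute x y := ((hV x hx).1 (Commute.refl x)).symm
    obtain ⟨u, hu, h1, h2, h3⟩ := exists_split hs hB hn (hf.mem x hx) (hf.mem y hy) ((hf.comm x hx y hy hne).1 hc)
    obtain ⟨z, hz, a, ha, rfl⟩ := hf.surj u hu
    have hsm : ∀ v, B v (a • f z) = a * B v (f z) := fun v => by rw [map_smul, smul_eq_mul]
    rw [hsm] at h1 h2
    have hxz := horth hx hz ((mul_eq_zero.1 h1).resolve_left ha)
    have hyz : y ≠ z := fun e => h3 a (by rw [e])
    exact hstep hy hz (fun e => h2 (by rw [e, mul_zero])) hyz ((hV z hz).1 hxz.2)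
  · by_contra hne
    by_cases hc : Commute x y
    · exact ((hW y hy).1 ⟨fun e => hne e.symm, hc⟩).1 rfl
    obtain ⟨⟨z, hz, h1, h2⟩, -⟩ := hskew x hx y hy hc
    have hxz := horth hx hz h1
    obtain ⟨hzy, hcy⟩ := (hW z hz).1 ⟨hxz.1.symm, hxz.2⟩
    exact hstep hy hz h2 hzy.symm hcy
  · by_cases hc : Commute x y
    · exact Relation.ReflTransGen.single ⟨hy, hc⟩
    obtain ⟨-, z, hz, h1, h2⟩ := hskew x hx y hy hc
    exact (Relation.ReflTransGen.single ⟨hz, (horth hx hz h1).2⟩).tail ⟨hy, (horth hy hz h2).2.symm⟩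

/-- A reflection class of determinant one, in standard labels, has as many members as the sum of squares says. -/
theorem rLike_card (hn : 1 ≤ n) (h : RLike S n 1) :
    S.ncard * 2 = (Finset.univ.filter fun a : V3 n => ∑ i, a i * a i = 1).card := by
  haveI : Fact (Nat.Prime 3) := ⟨Nat.prime_three⟩
  obtain ⟨B, hs, hB, hdet, f, hf⟩ := h
  obtain ⟨φ, hφ, hφB⟩ := exists_standard hs hB hdet hn
  have h1 := card_labels (T := S) (R := fun _ => True) hf (fun v hv e => by simp [e] at hv)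
    (fun v a ha hv => by simp [hv, sq_smul_three a ha]) (fun _ _ _ h => h) (fun _ => by simp)
  rw [ZMod.card, show (3 : ℕ) - 1 = 2 from rfl] at h1
  rw [h1, ← Nat.card_eq_finsetCard]
  exact (Nat.card_congr ((Equiv.ofBijective φ hφ).subtypeEquiv fun a => by
    rw [Finset.mem_filter]; simp [hφB])).symm

theorem rLike_six (h : RLike S 6 1) : S.ncard = 126 := by
  have := rLike_card (by norm_num) h; rw [squares_card.1] at this; omega

theorem rLike_seven (h : RLike S 7 1) : S.ncard = 351 := by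
  have := rLike_card (by norm_num) h; rw [squares_card.2.1] at this; omega

theorem rLike_eight (h : RLike S 8 1) : S.ncard = 1080 := by
  have := rLike_card (by norm_num) h; rw [squares_card.2.2] at this; omega

end Reflections

/-! ### Triples of reflection classes -/

theorem triLike_part {P : Fin 3 → Set G} (hP : (⋃ i, P i) = S) {x : G} (hx : x ∈ S) : ∃ i, x ∈ P i :=
  Set.mem_iUnion.1 (hP.symm ▸ hx)

theorem fin3_other : ∀ i j : Fin 3, ∃ k, k ≠ i ∧ k ≠ j := by decide

/-- A triple of reflection classes is good, and has a commuting pair and no path between its parts. -/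
theorem triLike_good (h : TriLike S) (hne : S.Nonempty) :
    Good S ∧ ¬ ∀ x ∈ S, ∀ y ∈ S, Relation.ReflTransGen (fun a b => b ∈ S ∧ Commute a b) x y := by
  obtain ⟨P, hP, hR, hn⟩ := h
  have hsub : ∀ i, P i ⊆ S := fun i x hx => hP ▸ Set.mem_iUnion.2 ⟨i, hx⟩
  have hgood := fun i => (rLike_good (by norm_num) (hR i)).1
  have hnonempty : ∀ i, (P i).Nonempty := fun i => by
    refine Set.nonempty_of_ncard_ne_zero ?_
    rw [rLike_eight (hR i)]; norm_num
  have hsame : ∀ {i j x y}, x ∈ P i → y ∈ P j → Commute x y → i = j := fun hx hy hc =>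
    by_contra fun hij => hn _ _ hij _ hx _ hy hc
  refine ⟨⟨fun x hx y hy => ?_, fun x hx => ?_, fun x hx => ?_, fun x hx y hy hV => ?_, fun x hx y hy hW => ?_⟩,
    fun hall => ?_⟩
  · obtain ⟨i, hi⟩ := triLike_part hP hx
    obtain ⟨j, hj⟩ := triLike_part hP hy
    obtain ⟨k, hki, hkj⟩ := fin3_other i j
    obtain ⟨z, hz⟩ := hnonempty k
    exact (Relation.ReflTransGen.single ⟨hx, hsub k hz, hn _ _ hki.symm _ hi _ hz⟩).tail
      ⟨hsub k hz, hy, hn _ _ hkj _ hz _ hj⟩
  · obtain ⟨i, hi⟩ := triLike_part hP hx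
    obtain ⟨y, hy, hne⟩ := (hgood i).sep x hi
    exact ⟨y, hsub i hy, hne⟩
  · obtain ⟨i, hi⟩ := triLike_part hP hx
    obtain ⟨y, hy⟩ := (hgood i).nbr x hi
    exact ⟨y, hsub i hy.1, hy.2⟩
  · obtain ⟨i, hi⟩ := triLike_part hP hx
    obtain ⟨j, hj⟩ := triLike_part hP hy
    obtain rfl : i = j := hsame hi hj ((hV x hx).1 (Commute.refl x)).symm
    exact (hgood i).vfree x hi y hj fun e he => hV e (hsub i he)
  · obtain ⟨i, hi⟩ := triLike_part hP hx
    obtain ⟨j, hj⟩ := triLike_part hP hy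
    obtain ⟨z, hz⟩ := (hgood i).nbr x hi
    obtain rfl : i = j := hsame hz.1 hj ((hW z (hsub i hz.1)).1 ⟨hz.2.1, hz.2.2⟩).2.symm
    exact (hgood i).wfree x hi y hj fun e he => hW e (hsub i he)
  · obtain ⟨x, hx⟩ := hnonempty 0
    obtain ⟨y, hy⟩ := hnonempty 1
    have key : ∀ z, Relation.ReflTransGen (fun a b => b ∈ S ∧ Commute a b) x z → z ∈ P 0 := by
      intro z hz
      induction hz with
      | refl => exact hx
      | @tail b c _ hbc ih =>
        obtain ⟨k, hk⟩ := triLike_part hP hbc.1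
        obtain rfl : 0 = k := hsame ih hk hbc.2
        exact hk
    exact hn 0 1 (by decide) y (key y (hall x (hsub 0 hx) y (hsub 1 hy))) y hy (Commute.refl y)

/-! ### Unitary labels in dimension six -/

theorem herm_smul_left {n : ℕ} (a : KQuad) (v w : Fin n → KQuad) : herm (a • v) w = a * herm v w := by
  simp [herm, Finset.mul_sum, mul_assoc]

theorem herm_smul_right {n : ℕ} (a : KQuad) (v w : Fin n → KQuad) : herm v (a • w) = a ^ 2 * herm v w := by
  simp only [herm, Finset.mul_sum, Pi.smul_apply, smul_eq_mul]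
  exact Finset.sum_congr rfl fun i _ => by ring

theorem herm_eq_zero_smul {n : ℕ} {a b : KQuad} (ha : a ≠ 0) (hb : b ≠ 0) (v w : Fin n → KQuad) :
    herm (a • v) (b • w) = 0 ↔ herm v w = 0 := by
  simp [herm_smul_left, herm_smul_right, ha, hb]

/-- The class of dimension six has 693 members, one of them commuting with 180 others. -/
theorem uSix_params (h : ULike S 6) : S.ncard = 693 ∧ ∃ x ∈ S, (perp S x).ncard = 180 := by
  classical
  obtain ⟨f, hf⟩ := h
  have hP : ∀ v, ∀ a : KQuad, a ≠ 0 → Iso6 v → Iso6 (a • v) := fun v a ha hv =>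
    ⟨smul_ne_zero ha hv.1, (herm_eq_zero_smul ha ha v v).2 hv.2⟩
  constructor
  · have h1 := card_labels (T := S) (R := fun _ => True) hf (fun v hv => hv.1) hP (fun _ _ _ h => h) (fun _ => by simp)
    rw [KQuad.card_eq, Nat.card_eq_fintype_card, Fintype.card_subtype] at h1
    simp only [and_true] at h1
    have := iso6_count.1
    simp only [Iso6] at this
    omega
  · obtain ⟨x, hx, c, hc, hcx⟩ := hf.surj v6 ref_facts.1
    refine ⟨x, hx, ?_⟩
    have hT : ∀ y, y ∈ perp S x ↔ y ∈ S ∧ herm v6 (f y) = 0 ∧ ∀ a : KQuad, f y ≠ a • v6 := by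
      intro y
      rw [hcx, herm_smul_left, mul_eq_zero, or_iff_right hc]
      refine and_congr_right fun hy => ?_
      constructor
      · rintro ⟨hne, hcom⟩
        exact ⟨(hf.comm x hx y hy hne.symm).1 hcom,
          fun a e => hne.symm (hf.inj x hx y hy (a * c) (by rw [e, smul_smul]))⟩
      · rintro ⟨h0, hne⟩
        have hne' : y ≠ x := fun e => hne c⁻¹ (by rw [e, inv_smul_smul₀ hc])
        exact ⟨hne', (hf.comm x hx y hy hne'.symm).2 h0⟩
    have h1 := card_labels (T := perp S x) (R := fun v => herm v6 v = 0 ∧ ∀ a : KQuad, v ≠ a • v6) hf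
      (fun v hv => hv.1) hP (fun v a ha hv => ⟨by rw [herm_smul_right, hv.1, mul_zero], fun b e =>
        hv.2 (a⁻¹ * b) (by rw [mul_smul, ← e, inv_smul_smul₀ ha])⟩) hT
    rw [KQuad.card_eq, Nat.card_eq_fintype_card, Fintype.card_subtype] at h1
    have := iso6_count.2
    simp only [Iso6] at this
    omega

/-- Two members that do not commute with a common part that is unitary of dimension four. -/
theorem uSix_common (h : ULike S 6) : ∃ p ∈ S, ∃ q ∈ S, ¬ Commute p q ∧ ULike (common S p q) 4 := by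
  obtain ⟨f, hf⟩ := h
  obtain ⟨h1, h2, h12, hsolve⟩ := ref_facts
  obtain ⟨p, hp, a, ha, hap⟩ := hf.surj v6 h1
  obtain ⟨q, hq, b, hb, hbq⟩ := hf.surj w6 h2
  have hpq : p ≠ q := fun e => h12 (by
    rw [hap, hbq, e, herm_eq_zero_smul ha hb]; exact (hf.mem q hq).2)
  have hnc : ¬ Commute p q := fun hc => h12 (by
    rw [hap, hbq, herm_eq_zero_smul ha hb]; exact (hf.comm p hp q hq hpq).1 hc)
  have hz : ∀ y ∈ common S p q, f y 0 = 0 ∧ f y 1 = 0 := by
    rintro y ⟨hyp, hyq⟩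
    have e1 : herm (1 • f y) v6 = 0 := by
      rw [hap, one_smul, ← one_smul KQuad (f y), herm_eq_zero_smul one_ne_zero ha]
      exact (hf.comm y hyp.1 p hp hyp.2.1).1 hyp.2.2.symm
    have e2 : herm (1 • f y) w6 = 0 := by
      rw [hbq, one_smul, ← one_smul KQuad (f y), herm_eq_zero_smul one_ne_zero hb]
      exact (hf.comm y hyq.1 q hq hyq.2.1).1 hyq.2.2.symm
    simp [herm, v6, w6, Fin.sum_univ_six] at e1 e2
    exact hsolve _ _ e1 e2
  let g : G → Fin 4 → KQuad := fun y => ![f y 2, f y 3, f y 4, f y 5]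
  have hherm : ∀ y ∈ common S p q, ∀ z ∈ common S p q, herm (g y) (g z) = herm (f y) (f z) := by
    intro y hy z _
    simp [herm, g, Fin.sum_univ_six, Fin.sum_univ_four, (hz y hy).1, (hz y hy).2]
  have hext : ∀ y, ∀ u : Fin 6 → KQuad, f y 0 = u 0 → f y 1 = u 1 → g y = ![u 2, u 3, u 4, u 5] → f y = u := by
    intro y u e0 e1 e
    funext i
    fin_cases i
    exacts [e0, e1, congrFun e 0, congrFun e 1, congrFun e 2, congrFun e 3]
  refine ⟨p, hp, q, hq, hnc, g, ?_, ?_, ?_, ?_⟩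
  · intro y hy
    refine ⟨fun e => (hf.mem y hy.1.1).1 ?_, (hherm y hy y hy).trans (hf.mem y hy.1.1).2⟩
    exact hext y 0 (hz y hy).1 (hz y hy).2 (by rw [e]; funext i; fin_cases i <;> rfl)
  · intro v hv
    let w : Fin 6 → KQuad := ![0, 0, v 0, v 1, v 2, v 3]
    have hw : Iso6 w := by
      refine ⟨fun e => hv.1 (funext fun i => ?_), ?_⟩
      · fin_cases i
        exacts [congrFun e 2, congrFun e 3, congrFun e 4, congrFun e 5]
      · rw [← hv.2]; simp [herm, w, Fin.sum_univ_six, Fin.sum_univ_four]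
    obtain ⟨y, hy, c, hc, hcy⟩ := hf.surj w hw
    have hperp : ∀ {r : G} {d : KQuad} {u : Fin 6 → KQuad}, r ∈ S → d ≠ 0 → u = d • f r → herm u w = 0 →
        u 2 = 0 ∧ u 3 = 0 ∧ u 4 = 0 ∧ u 5 = 0 → y ∈ perp S r := by
      intro r d u hr hd hu h0 hzero
      have hne : y ≠ r := fun e => hw.1 (funext fun i => by
        have e' : u i = 0 → w i = 0 := fun h => by
          rw [hu, Pi.smul_apply, smul_eq_zero, or_iff_right hd] at h
          rw [hcy, e, Pi.smul_apply, h, smul_zero]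
        fin_cases i
        exacts [rfl, rfl, e' hzero.1, e' hzero.2.1, e' hzero.2.2.1, e' hzero.2.2.2])
      refine ⟨hy, hne, (hf.comm r hr y hy hne.symm).2 ?_⟩
      rwa [hu, hcy, herm_eq_zero_smul hd hc] at h0
    refine ⟨y, ⟨hperp hp ha hap ?_ (by decide), hperp hq hb hbq ?_ (by decide)⟩, c, hc, funext fun i => ?_⟩
    · simp [herm, w, v6, Fin.sum_univ_six]
    · simp [herm, w, w6, Fin.sum_univ_six]
    · fin_cases i
      exacts [congrFun hcy 2, congrFun hcy 3, congrFun hcy 4, congrFun hcy 5]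
  · intro y hy z hz' c e
    refine hf.inj y hy.1.1 z hz'.1.1 c (hext z _ ?_ ?_ (by rw [e]; funext i; fin_cases i <;> rfl))
    · show f z 0 = c * f y 0; rw [(hz z hz').1, (hz y hy).1, mul_zero]
    · show f z 1 = c * f y 1; rw [(hz z hz').2, (hz y hy).2, mul_zero]
  · intro y hy z hz' hne
    rw [hherm y hy z hz']
    exact hf.comm y hy.1.1 z hz'.1.1 hne

end Cfsg.Lib.Fischer.Climb
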