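import Cfsg.Agent.Fischer.Climb.Trace
import Cfsg.Agent.Fischer.Two

/-!
The parameters of the types M(22) and M(23), and the primitivity of their neighbourhoods.
-/

set_option autoImplicit false
set_option linter.unusedSectionVars false
set_option maxRecDepth 100000

namespace Cfsg.Lib.Fischer.Climb

open Cfsg Subgroup Cfsg.Lib.ThreeTr
open Cfsg.Lib.PrimeGraph (KQuad)

universe u

variable {G : Type u} [Group G] {S : Set G}

theorem isotropic_meet : ∀ a b : KQuad, a ≠ 0 → ∃ t : KQuad, t ≠ 0 ∧ a + b * t ^ 2 ≠ 0 ∧ 1 + t * t ^ 2 = 0 := by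
  decide +kernel

/-- No member of a unitary class of dimension six commutes with all others. -/
theorem uSix_sep (h : ULike S 6) : ∀ x ∈ S, ∃ y ∈ S, ¬ Commute x y := by
  obtain ⟨f, hf⟩ := h
  intro x hx
  obtain ⟨i, hi⟩ : ∃ i, f x i ≠ 0 := by
    by_contra hh
    push Not at hh
    exact (hf.mem x hx).1 (funext hh)
  obtain ⟨j, hj⟩ : ∃ j, j ≠ i := exists_ne i
  obtain ⟨t, -, ht, ht3⟩ := isotropic_meet (f x i) (f x j) hi
  let w : Fin 6 → KQuad := fun l => if l = i then 1 else if l = j then t else 0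
  have hherm : ∀ v : Fin 6 → KQuad, herm v w = v i + v j * t ^ 2 := by
    intro v
    rw [herm, Finset.sum_eq_add i j hj.symm]
    · simp [w, hj]
    · intro l _ hl; simp [w, hl.1, hl.2]
    · simp
    · simp
  have hw : w ≠ 0 ∧ herm w w = 0 := by
    refine ⟨fun e => one_ne_zero (α := KQuad) ?_, ?_⟩
    · simpa [w] using congrFun e i
    · rw [hherm]; simpa [w, hj] using ht3
  obtain ⟨y, hy, c, hc, hcy⟩ := hf.surj w hw
  have hne : x ≠ y := fun e => ht (by
    rw [← hherm, hcy, ← one_smul KQuad (f x), herm_eq_zero_smul one_ne_zero hc, e]; exact (hf.mem y hy).2)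
  refine ⟨y, hy, fun hcom => ht ?_⟩
  rw [← hherm, hcy, ← one_smul KQuad (f x), herm_eq_zero_smul one_ne_zero hc]
  exact (hf.comm x hx y hy hne).1 hcom

/-- In a symplectic class the neighbours of a member come in twins. -/
theorem sp_twin {n : ℕ} (h : SpLike S n) {e y : G} (he : e ∈ S) (hy : y ∈ perp S e) :
    ∃ z ∈ perp S e, z ≠ y ∧ VRel (perp S e) y z := by
  obtain ⟨B, hA, -, f, hf⟩ := h
  have hey : B (f e) (f y) = 0 := (hf.comm e he y hy.1 hy.2.1.symm).1 hy.2.2
  have hsym : ∀ v w, B v w = B w v := Two.alt_symm hA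
  have hne0 : f y + f e ≠ 0 := fun h => hy.2.1 (Two.label_inj hf hy.1 he ((Two.eq_iff_add _ _).2 h))
  obtain ⟨z, hz, hzv⟩ := Two.exists_pre hf hne0
  have hze : z ≠ e := fun e' => hf.mem y hy.1 (by
    rw [e'] at hzv; exact add_eq_right.1 hzv.symm)
  have hzy : z ≠ y := fun e' => hf.mem e he (by
    rw [e'] at hzv; exact add_eq_left.1 hzv.symm)
  refine ⟨z, ⟨hz, hze, (hf.comm e he z hz hze.symm).2 (by rw [hzv, map_add, hey, hA (f e), add_zero])⟩, hzy,
    fun w hw => ?_⟩
  have hew : B (f e) (f w) = 0 := (hf.comm e he w hw.1 hw.2.1.symm).1 hw.2.2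
  have heq : B (f z) (f w) = B (f y) (f w) := by rw [hzv, map_add, LinearMap.add_apply, hew, add_zero]
  rcases eq_or_ne w y with rfl | hwy
  · exact iff_of_true (Commute.refl _) ((hf.comm z hz w hy.1 hzy).2 (heq.trans (hA (f w))))
  rcases eq_or_ne w z with rfl | hwz
  · exact iff_of_true ((hf.comm y hy.1 w hz hzy.symm).2 (heq ▸ hA (f w))) (Commute.refl _)
  rw [hf.comm y hy.1 w hw.1 hwy.symm, hf.comm z hz w hw.1 hwz.symm, heq]

theorem herm_add_left {n : ℕ} (v v' w : Fin n → KQuad) : herm (v + v') w = herm v w + herm v' w := by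
  simp [herm, add_mul, Finset.sum_add_distrib]

theorem herm_add_right {n : ℕ} (v w w' : Fin n → KQuad) : herm v (w + w') = herm v w + herm v w' := by
  simp only [herm, Pi.add_apply, CharTwo.add_sq, mul_add, Finset.sum_add_distrib]

/-- In a unitary class the neighbours of a member come in twins. -/
theorem u_twin {n : ℕ} (h : ULike S n) {e y : G} (he : e ∈ S) (hy : y ∈ perp S e) :
    ∃ z ∈ perp S e, z ≠ y ∧ VRel (perp S e) y z := by
  obtain ⟨f, hf⟩ := h
  have hey : herm (f e) (f y) = 0 := (hf.comm e he y hy.1 hy.2.1.symm).1 hy.2.2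
  have hye : herm (f y) (f e) = 0 := (hf.comm y hy.1 e he hy.2.1).1 hy.2.2.symm
  have hee := (hf.mem e he).2
  have hyy := (hf.mem y hy.1).2
  have hneg : ∀ v : Fin n → KQuad, ∀ w, v + w = 0 → w = v := fun v w h => by
    funext i
    exact (CharTwo.add_eq_zero.1 (congrFun h i)).symm
  have hne0 : f y + f e ≠ 0 := fun h => hy.2.1 (hf.inj y hy.1 e he 1 (by rw [one_smul]; exact hneg _ _ h))
  obtain ⟨z, hz, a, ha, hzv⟩ := hf.surj (f y + f e)
    ⟨hne0, by simp [herm_add_left, herm_add_right, hey, hye, hee, hyy]⟩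
  have hze : z ≠ e := fun e' => hy.2.1 (hf.inj e he y hy.1 (a + 1) (by
    rw [e'] at hzv
    rw [add_smul, one_smul, ← hzv, add_assoc, show f e + f e = 0 from funext fun i => CharTwo.add_self_eq_zero _,
      add_zero])).symm
  have hzy : z ≠ y := fun e' => hy.2.1.symm (hf.inj y hy.1 e he (a + 1) (by
    rw [e'] at hzv
    rw [add_smul, one_smul, ← hzv, add_comm (f y) (f e), add_assoc,
      show f y + f y = 0 from funext fun i => CharTwo.add_self_eq_zero _, add_zero])).symm
  have heq : ∀ w ∈ perp S e, herm (f z) (f w) = 0 ↔ herm (f y) (f w) = 0 := fun w hw => by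
    rw [← herm_eq_zero_smul ha one_ne_zero, ← hzv, one_smul, herm_add_left,
      (hf.comm e he w hw.1 hw.2.1.symm).1 hw.2.2, add_zero]
  have hzS : z ∈ perp S e := by
    refine ⟨hz, hze, (hf.comm e he z hz hze.symm).2 ?_⟩
    rw [← herm_eq_zero_smul one_ne_zero ha, ← hzv, one_smul, herm_add_right, hey, hee, add_zero]
  refine ⟨z, hzS, hzy, fun w hw => ?_⟩
  rcases eq_or_ne w y with rfl | hwy
  · exact iff_of_true (Commute.refl _) ((hf.comm z hz w hy.1 hzy).2 ((heq w hw).2 hyy))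
  rcases eq_or_ne w z with rfl | hwz
  · exact iff_of_true ((hf.comm y hy.1 w hz hzy.symm).2 ((heq w hw).1 (hf.mem w hz).2)) (Commute.refl _)
  rw [hf.comm y hy.1 w hw.1 hwy.symm, hf.comm z hz w hw.1 hwz.symm, heq w hw]

/-- A neighbourhood of type M(22) is primitive. -/
theorem prim_of_m22 [Finite G] {E : Set G} (hR : Rich E) (hZ : center G = ⊥) {e : G} (he : e ∈ E)
    (h : M22Like (perp E e)) : Prim (perp E e) := by
  obtain ⟨d, hd, -, -, -, hU, -⟩ := h
  have hcard : 693 ≤ E.ncard := (uSix_params hU).1 ▸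
    Set.ncard_le_ncard (fun x hx => hx.1.1) (Set.toFinite _)
  have htwin : ∀ z ∈ perp E e, z ≠ d → VRel (perp E e) d z → False := by
    intro z hz hne hV
    have hzd : z ∈ perp (perp E e) d := ⟨hz, hne, ((hV d hd).1 (Commute.refl d)).symm⟩
    obtain ⟨w, hw, hnc⟩ := uSix_sep hU z hzd
    exact hnc ((hV w hw.1).1 hw.2.2)
  rcases perp_cases hR hZ he with P | ⟨f, hf, -⟩ | ⟨n, h'⟩ | ⟨n, h'⟩
  · exact P
  · have h1 := Set.ncard_le_ncard (Set.subset_univ (f '' E)) (Set.toFinite _)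
    rw [hf.injOn.ncard_image, Set.ncard_univ, Nat.card_eq_fintype_card] at h1
    simp at h1
    omega
  · obtain ⟨z, hz, hne, hV⟩ := sp_twin h' he hd
    exact (htwin z hz hne hV).elim
  · obtain ⟨z, hz, hne, hV⟩ := u_twin h' he hd
    exact (htwin z hz hne hV).elim

theorem m22_params [Finite G] (P : Prim S) (h : M22Like S) : S.ncard = 3510 ∧ Param S 693 180 126 := by
  obtain ⟨d, hd, c, hc, hdc, hU, hR⟩ := h
  obtain ⟨hk, x, hx, hl⟩ := uSix_params hU
  rw [perp_perp] at hl
  have hp := prim_param P hd hx hc hdc hk hl (rLike_six hR)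
  have h1 := hp.paths hd
  refine ⟨?_, hp⟩
  omega

theorem m23_params [Finite G] (P : Prim S) (h : M23Like S) : S.ncard = 31671 ∧ Param S 3510 693 351 := by
  obtain ⟨d, hd, c, hc, hdc, hM, hR⟩ := h
  obtain ⟨Q, _, _, E, f, hRE, hZ, hf, -⟩ := P.exists_quotient
  obtain ⟨g, hg⟩ := iso_symm (hf.perp hd)
  obtain ⟨hk, hp0⟩ := m22_params (prim_of_m22 hRE hZ (hf.mem hd) (hg.m22Like hM)) (hg.m22Like hM)
  rw [iso_card (hf.perp hd)] at hk
  have hp := hp0.pull (hf.perp hd)
  obtain ⟨y, hy, -⟩ := hM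
  have hl := hp.deg y hy
  rw [perp_perp] at hl
  have hp' := prim_param P hd hy hc hdc hk hl (rLike_seven hR)
  have h1 := hp'.paths hd
  refine ⟨?_, hp'⟩
  omega

end Cfsg.Lib.Fischer.Climb
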