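import Cfsg.Agent.Fischer.Branch
import Cfsg.Agent.ThreeTransposition.M23Count.SrgTrace

/-!
Constants of the commuting graph of a class on which noncommuting and commuting pairs are conjugate: the paths of
length two and the trace condition.
-/

set_option autoImplicit false
set_option linter.unusedSectionVars false
set_option linter.style.haveILetI false

namespace Cfsg.Lib.Fischer.Climb

open Cfsg Subgroup Cfsg.Lib.ThreeTr

attribute [local instance] _root_.Classical.propDecidable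

universe u v w

variable {G : Type u} [Group G] {G' : Type v} [Group G'] {G'' : Type w} [Group G''] {S : Set G} {S' : Set G'}
  {S'' : Set G''}

theorem iso_card {f : G → G'} (h : GraphIso S S' f) : S'.ncard = S.ncard := by
  rw [← h.bij.image_eq, h.bij.injOn.ncard_image]

theorem iso_trans {f : G → G'} {g : G' → G''} (h : GraphIso S S' f) (h' : GraphIso S' S'' g) :
    GraphIso S S'' (g ∘ f) :=
  ⟨h'.bij.comp h.bij, fun x hx y hy => (h'.comm _ (h.mem hx) _ (h.mem hy)).trans (h.comm x hx y hy)⟩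

theorem iso_symm {f : G → G'} (h : GraphIso S S' f) : ∃ g, GraphIso S' S g := by
  refine ⟨fun y => if hy : ∃ x ∈ S, f x = y then hy.choose else 1, ?_, fun a ha b hb => ?_⟩
  · refine ⟨fun y hy => ?_, fun a ha b hb e => ?_, fun x hx => ⟨f x, h.mem hx, ?_⟩⟩
    · simp only [dif_pos (h.pull hy)]; exact (h.pull hy).choose_spec.1
    · simp only [dif_pos (h.pull ha), dif_pos (h.pull hb)] at e
      rw [← (h.pull ha).choose_spec.2, ← (h.pull hb).choose_spec.2, e]
    · simp only [dif_pos (⟨x, hx, rfl⟩ : ∃ z ∈ S, f z = f x)]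
      exact h.bij.injOn (Exists.choose_spec (⟨x, hx, rfl⟩ : ∃ z ∈ S, f z = f x)).1 hx
        (Exists.choose_spec (⟨x, hx, rfl⟩ : ∃ z ∈ S, f z = f x)).2
  · simp only [dif_pos (h.pull ha), dif_pos (h.pull hb)]
    rw [← h.comm _ (h.pull ha).choose_spec.1 _ (h.pull hb).choose_spec.1, (h.pull ha).choose_spec.2,
      (h.pull hb).choose_spec.2]

theorem perp_perp {D : Set G} {d y : G} : perp (perp D d) y = common D d y := by
  ext z
  exact ⟨fun h => ⟨h.1, h.1.1, h.2.1, h.2.2⟩, fun h => ⟨h.1, h.2.2.1, h.2.2.2⟩⟩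

/-- Conjugation takes common neighbours to common neighbours. -/
theorem graphIso_conj_common {D : Set G} (hD : IsThreeTranspositionClass D) (g x y : G) :
    GraphIso (common D x y) (common D (g * x * g⁻¹) (g * y * g⁻¹)) fun z => g * z * g⁻¹ := by
  have hinj := conj_image_injective (G := G) g
  refine ⟨⟨fun z hz => ?_, hinj.injOn, fun z hz => ?_⟩, fun a _ b _ => conj_commute_iff g a b⟩
  · exact ⟨conj_image_perp hD g x ▸ ⟨z, hz.1, rfl⟩, conj_image_perp hD g y ▸ ⟨z, hz.2, rfl⟩⟩
  · have h1 := hz.1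
    have h2 := hz.2
    rw [← conj_image_perp hD g x] at h1
    rw [← conj_image_perp hD g y] at h2
    obtain ⟨u, hu, rfl⟩ := h1
    obtain ⟨v, hv, e⟩ := h2
    obtain rfl : v = u := hinj e
    exact ⟨v, ⟨hu, hv⟩, rfl⟩

/-- Common neighbours of two noncommuting pairs of a primitive set look alike. -/
theorem exists_iso_common [Finite G] (P : Prim S) {p q a b : G} (hp : p ∈ S) (hq : q ∈ S) (hpq : ¬ Commute p q)
    (ha : a ∈ S) (hb : b ∈ S) (hab : ¬ Commute a b) : ∃ h, GraphIso (common S p q) (common S a b) h := by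
  obtain ⟨Q, _, _, E, f, hR, -, hf, -⟩ := P.exists_quotient
  obtain ⟨g, hgp, hgq⟩ := exists_conj_pair hR (hf.mem hp) (hf.mem hq) (fun h => hpq ((hf.comm p hp q hq).1 h))
    (hf.mem ha) (hf.mem hb) (fun h => hab ((hf.comm a ha b hb).1 h))
  have h2 := graphIso_conj_common hR.cls g (f p) (f q)
  rw [hgp, hgq] at h2
  obtain ⟨i, h3⟩ := iso_symm (hf.common ha hb)
  exact ⟨_, iso_trans (iso_trans (hf.common hp hq) h2) h3⟩

/-- Degree, common neighbours of commuting and of noncommuting pairs. -/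
structure Param (S : Set G) (k l m : ℕ) : Prop where
  deg : ∀ x ∈ S, (perp S x).ncard = k
  adj : ∀ x ∈ S, ∀ y ∈ perp S x, (common S x y).ncard = l
  nonadj : ∀ x ∈ S, ∀ y ∈ S, ¬ Commute x y → (common S x y).ncard = m
  lt : ∀ x ∈ S, ∀ y ∈ S, ¬ Commute x y → m < k

theorem rich_param [Finite G] {D : Set G} (hR : Rich D) {d y c : G} (hd : d ∈ D) (hy : y ∈ perp D d) (hc : c ∈ D)
    (hdc : ¬ Commute d c) {k l m : ℕ} (hk : (perp D d).ncard = k) (hl : (common D d y).ncard = l)
    (hm : (common D d c).ncard = m) : Param D k l m := by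
  have hD := hR.cls
  have hdeg : ∀ x ∈ D, (perp D x).ncard = k := fun x hx => (ncard_perp_eq hD hx hd).trans hk
  have hnon : ∀ x ∈ D, ∀ z ∈ D, ¬ Commute x z → (common D x z).ncard = m := fun x hx z hz h => by
    obtain ⟨g, e1, e2⟩ := exists_conj_pair hR hd hc hdc hx hz h
    rw [← hm, ← e1, ← e2]
    exact iso_card (graphIso_conj_common hD g d c)
  refine ⟨hdeg, fun x hx z hz => ?_, hnon, fun x hx z hz h => ?_⟩
  · obtain ⟨g, e1, e2⟩ := exists_conj_edge hR hd hy hx hz
    rw [← hl, ← e1, ← e2]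
    exact iso_card (graphIso_conj_common hD g d y)
  · rw [← hnon x hx z hz h]
    refine lt_of_le_of_ne (hdeg x hx ▸ Set.ncard_le_ncard Set.inter_subset_left (Set.toFinite _)) fun e => ?_
    have e1 : common D x z = perp D x :=
      Set.eq_of_subset_of_ncard_le Set.inter_subset_left (by rw [e, hdeg x hx]) (Set.toFinite _)
    have e2 : common D x z = perp D z :=
      Set.eq_of_subset_of_ncard_le Set.inter_subset_right (by rw [e, hdeg z hz]) (Set.toFinite _)
    refine h (eq_of_wRel_of_primitive hR.prim hD hR.pair hx hz (fun w hw => ?_) ▸ Commute.refl x)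
    have := congrArg (fun T : Set G => w ∈ T) (e1.symm.trans e2)
    simp only [perp, Set.mem_ofPred_eq, hw, true_and, eq_iff_iff] at this
    exact this

theorem Param.pull {f : G → G'} (h : GraphIso S S' f) {k l m : ℕ} (hp : Param S' k l m) : Param S k l m :=
  ⟨fun x hx => (iso_card (h.perp hx)).symm.trans (hp.deg _ (h.mem hx)),
    fun x hx y hy => (iso_card (h.common hx hy.1)).symm.trans (hp.adj _ (h.mem hx) _ ((h.mem_perp hx hy.1).2 hy)),
    fun x hx y hy hc => (iso_card (h.common hx hy)).symm.trans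
      (hp.nonadj _ (h.mem hx) _ (h.mem hy) fun e => hc ((h.comm x hx y hy).1 e)),
    fun x hx y hy hc => hp.lt _ (h.mem hx) _ (h.mem hy) fun e => hc ((h.comm x hx y hy).1 e)⟩

theorem prim_param [Finite G] (P : Prim S) {d y c : G} (hd : d ∈ S) (hy : y ∈ perp S d) (hc : c ∈ S)
    (hdc : ¬ Commute d c) {k l m : ℕ} (hk : (perp S d).ncard = k) (hl : (common S d y).ncard = l)
    (hm : (common S d c).ncard = m) : Param S k l m := by
  obtain ⟨Q, _, _, E, f, hR, -, hf, -⟩ := P.exists_quotient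
  exact (rich_param hR (hf.mem hd) ((hf.mem_perp hd hy.1).2 hy) (hf.mem hc)
    (fun e => hdc ((hf.comm d hd c hc).1 e)) ((iso_card (hf.perp hd)).trans hk)
    ((iso_card (hf.common hd hy.1)).trans hl) ((iso_card (hf.common hd hc)).trans hm)).pull hf

/-- The paths of length two from one member. -/
theorem Param.paths [Finite G] {k l m : ℕ} (h : Param S k l m) {a : G} (ha : a ∈ S) :
    ({e | e ∈ S ∧ ¬ Commute a e}).ncard * m = k * (k - 1 - l) ∧
      S.ncard = ({e | e ∈ S ∧ ¬ Commute a e}).ncard + (k + 1) := by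
  haveI : Fintype G := Fintype.ofFinite G
  set A : Set G := {e | e ∈ S ∧ ¬ Commute a e} with hA
  constructor
  · have h1 : ∀ x ∈ (perp S a).toFinset, (A.toFinset.filter fun e => Commute x e).card = k - 1 - l := by
      intro x hx
      rw [Set.mem_toFinset] at hx
      have hax : a ∈ perp S x := ⟨ha, hx.2.1.symm, hx.2.2.symm⟩
      have e : ((A.toFinset.filter fun e => Commute x e : Finset G) : Set G) = perp S x \ insert a (common S a x) := by
        ext e
        simp only [Finset.coe_filter, Set.mem_toFinset, hA, Set.mem_ofPred_eq, Set.mem_sdiff, Set.mem_insert_iff]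
        constructor
        · rintro ⟨⟨he, hae⟩, hxe⟩
          exact ⟨⟨he, fun e' => hae (e' ▸ hx.2.2), hxe⟩, fun h' => h'.elim (fun e' => hae (e' ▸ Commute.refl a))
            fun h' => hae h'.1.2.2⟩
        · rintro ⟨⟨he, hne, hxe⟩, hno⟩
          push Not at hno
          exact ⟨⟨he, fun hae => hno.2 ⟨⟨he, hno.1, hae⟩, he, hne, hxe⟩⟩, hxe⟩
      rw [← Set.ncard_coe_finset, e, Set.ncard_sdiff ?_ (Set.toFinite _),
        Set.ncard_insert_of_notMem (fun h' => h'.1.2.1 rfl) (Set.toFinite _), h.deg x hx.1, h.adj a ha x hx]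
      · omega
      · exact Set.insert_subset hax fun z hz => hz.2
    have h2 : ∀ e ∈ A.toFinset, ((perp S a).toFinset.filter fun x => Commute x e).card = m := by
      intro e he
      rw [Set.mem_toFinset] at he
      rw [← h.nonadj a ha e he.1 he.2, ← Set.ncard_coe_finset]
      congr 1
      ext x
      simp only [Finset.coe_filter, Set.mem_toFinset, Set.mem_ofPred_eq]
      exact ⟨fun ⟨hx, hxe⟩ => ⟨hx, hx.1, fun e' => he.2 (e' ▸ hx.2.2), hxe.symm⟩,
        fun ⟨hx, hxe⟩ => ⟨hx, hxe.2.2.symm⟩⟩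
    have hsum : ∑ x ∈ (perp S a).toFinset, (A.toFinset.filter fun e => Commute x e).card =
        ∑ e ∈ A.toFinset, ((perp S a).toFinset.filter fun x => Commute x e).card := by
      simp only [Finset.card_eq_sum_ones, Finset.sum_filter]
      exact Finset.sum_comm
    rw [Finset.sum_congr rfl h1, Finset.sum_congr rfl h2, Finset.sum_const, Finset.sum_const, smul_eq_mul,
      smul_eq_mul, ← Set.ncard_eq_toFinset_card', ← Set.ncard_eq_toFinset_card', h.deg a ha] at hsum
    exact hsum.symm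
  · have e : S = A ∪ insert a (perp S a) := by
      ext x
      simp only [Set.mem_union, hA, Set.mem_ofPred_eq, Set.mem_insert_iff]
      constructor
      · intro hx
        by_cases hc : Commute a x
        · exact Or.inr ((eq_or_ne x a).imp_right fun hne => ⟨hx, hne, hc⟩)
        · exact Or.inl ⟨hx, hc⟩
      · rintro (⟨hx, -⟩ | rfl | hx)
        exacts [hx, ha, hx.1]
    conv_lhs => rw [e]
    rw [Set.ncard_union_eq ?_ (Set.toFinite _) (Set.toFinite _),
      Set.ncard_insert_of_notMem (fun h' => h'.2.1 rfl) (Set.toFinite _), h.deg a ha]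
    rw [Set.disjoint_left]
    rintro x ⟨-, hc⟩ (rfl | hx)
    exacts [hc (Commute.refl _), hc hx.2.2]

/-- The trace condition. -/
theorem Param.trace [Finite G] {k l m : ℕ} (h : Param S k l m) {a c : G} (ha : a ∈ S) (hc : c ∈ S)
    (hac : ¬ Commute a c) :
    ∃ z : ℤ, (((S.ncard : ℤ) - 1) * ((l : ℤ) - m) + 2 * k) ^ 2 = (((l : ℤ) - m) ^ 2 + 4 * ((k : ℤ) - m)) * z ^ 2 := by
  haveI : Nonempty ↥S := ⟨⟨a, ha⟩⟩
  haveI : Fintype ↥S := Fintype.ofFinite _
  rw [← Nat.card_coe_set_eq, Nat.card_eq_fintype_card]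
  have himg : ∀ (P : G → Prop) (T : Set G), (∀ x, x ∈ T ↔ x ∈ S ∧ P x) → {x : ↥S | P x}.ncard = T.ncard := by
    intro P T hT
    rw [← Set.ncard_image_of_injective _ Subtype.val_injective]
    congr 1
    ext x
    rw [hT]
    exact ⟨by rintro ⟨y, hy, rfl⟩; exact ⟨y.2, hy⟩, fun ⟨hx, hP⟩ => ⟨⟨x, hx⟩, hP, rfl⟩⟩
  refine srg_trace (fun i j : ↥S => (j : G) ∈ perp S i)
    (fun i j h => ⟨i.2, h.2.1.symm, h.2.2.symm⟩) (fun i h => h.2.1 rfl) k l m (fun i => ?_) (fun i j hij => ?_)
    (fun i j hne hij => ?_) (h.lt a ha c hc hac)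
  · rw [himg (fun x => x ∈ perp S i) (perp S i) fun x => ⟨fun h => ⟨h.1, h⟩, fun h => h.2⟩, h.deg i i.2]
  · rw [← h.adj i i.2 j hij]
    exact himg (fun x => x ∈ perp S i ∧ (j : G) ∈ perp S x) _ fun x =>
      ⟨fun ⟨h1, h2⟩ => ⟨h1.1, h1, j.2, h2.2.1.symm, h2.2.2.symm⟩,
        fun ⟨_, h1, h2⟩ => ⟨h1, h1.1, h2.2.1.symm, h2.2.2.symm⟩⟩
  · have hn : ¬ Commute (i : G) j := fun e => hij ⟨j.2, fun e' => hne (Subtype.ext e').symm, e⟩
    rw [← h.nonadj i i.2 j j.2 hn]
    exact himg (fun x => x ∈ perp S i ∧ (j : G) ∈ perp S x) _ fun x =>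
      ⟨fun ⟨h1, h2⟩ => ⟨h1.1, h1, j.2, h2.2.1.symm, h2.2.2.symm⟩,
        fun ⟨_, h1, h2⟩ => ⟨h1, h1.1, h2.2.1.symm, h2.2.2.symm⟩⟩

end Cfsg.Lib.Fischer.Climb
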