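import Cfsg.Agent.Fischer.Climb.Params

/-!
The steps to the types M(22), M(23), M(24), and no class above M(24).
-/

set_option autoImplicit false
set_option linter.unusedSectionVars false
set_option maxRecDepth 100000

namespace Cfsg.Lib.Fischer.Climb

open Cfsg Subgroup Cfsg.Lib.ThreeTr

universe u

/-- The trace condition fails for `j` parts of size `N`. -/
abbrev Bad (k l N j : ℕ) : Prop :=
  k * (k - 1 - l) % (j * N) = 0 →
    ((((k * (k - 1 - l) / (j * N) + (k + 1) : ℕ) : ℤ) - 1) * ((l : ℤ) - (j * N : ℕ)) + 2 * k) ^ 2 %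
      (((l : ℤ) - (j * N : ℕ)) ^ 2 + 4 * ((k : ℤ) - (j * N : ℕ))) ≠ 0

theorem bad_table : (∀ j < 6, 0 < j → j ≠ 1 → Bad 693 180 126 j) ∧
    (∀ j < 10, 0 < j → j ≠ 1 → Bad 3510 693 351 j) ∧
    (∀ j < 30, 0 < j → j ≠ 3 → Bad 31671 3510 1080 j) := by
  refine ⟨?_, ?_, ?_⟩ <;> decide +kernel

variable {G : Type u} [Group G] [Finite G] {D : Set G} {d c : G}

/-- The trace has the expected number of parts. -/
theorem part_count (hS : Setting D) (hd : d ∈ D) (hc : c ∈ D) (hdc : ¬ Commute d c) {k l : ℕ}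
    (hk : (perp D d).ncard = k) (y : G) (hy : y ∈ perp D d)
    (hl : (perp (perp D d) y).ncard = l) {N : ℕ} (hN : ∀ z ∈ common D d c, (part (common D d c) z).ncard = N)
    {bd tgt : ℕ} (hbad : ∀ j < bd, 0 < j → j ≠ tgt → Bad k l N j) (hb : k ≤ bd * N) :
    ((part (common D d c)) '' common D d c).ncard = tgt := by
  obtain ⟨j, hj, hj'⟩ := exists_count hN
  rw [hj']
  rw [perp_perp] at hl
  have hpar := rich_param hS.rich hd hy hc hdc hk hl hj
  obtain ⟨t, ht⟩ := exists_common hS.rich hd hc hdc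
  have hpos : 0 < j * N := by
    rw [← hj]; exact (Set.ncard_pos (Set.toFinite _)).2 ⟨t, ht⟩
  have hjb : j < bd := by
    have := hpar.lt d hd c hc hdc
    exact Nat.lt_of_mul_lt_mul_right (lt_of_lt_of_le this hb)
  by_contra hne
  obtain ⟨hA, hv⟩ := hpar.paths hd
  obtain ⟨z, hz⟩ := hpar.trace hd hc hdc
  refine hbad j hjb (Nat.pos_of_mul_pos_right hpos) hne ?_ ?_
  · rw [← hA]; exact Nat.mul_mod_left _ _
  · rw [← hA, Nat.mul_div_cancel _ hpos, ← hv, hz]
    exact Int.mul_emod_right _ _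

/-- With one part the trace is that part. -/
theorem one_part {T : Set G} {y : G} (hy : y ∈ T) (h : ((part T) '' T).ncard = 1) : part T y = T := by
  obtain ⟨C, hC⟩ := Set.ncard_eq_one.1 h
  refine Set.Subset.antisymm (part_subset hy) fun z hz => ?_
  have h1 : part T y = C := Set.mem_singleton_iff.1 (hC ▸ ⟨y, hy, rfl⟩ : part T y ∈ ({C} : Set (Set G)))
  have h2 : part T z = C := Set.mem_singleton_iff.1 (hC ▸ ⟨z, hz, rfl⟩ : part T z ∈ ({C} : Set (Set G)))
  rw [h1, ← h2]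
  exact mem_part_self z

theorem traces_parts (hStep : StepR.{u}) (hS : Setting D) (hd : d ∈ D) (hc : c ∈ D) (hdc : ¬ Commute d c) {p q : G}
    (hp : p ∈ perp D d) (hq : q ∈ perp D d) (hpq : ¬ Commute p q) {n : ℕ} (hn : 5 ≤ n)
    (href : RLike (common (perp D d) p q) n 1) :
    ∀ y ∈ common D d c, RLike (part (common D d c) y) (n + 1) 1 :=
  exists_parts hStep hS.rich hn fun y hy => by
    obtain ⟨f, hf⟩ := exists_ref_iso hS hd hc hdc hp hq hpq hy
    exact hf.rLike href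

theorem stepUSix (hC : Coincidences.{u}) (hStep : StepR.{u}) : StepUSix.{u} := by
  intro G _ _ D hS d hd hU
  obtain ⟨z, hz⟩ := ThreeTr.exists_not_commute hS.rich.cls hS.rich.two hd
  obtain ⟨p, hp, q, hq, hpq, hU4⟩ := uSix_common hU
  obtain ⟨hk, y, hy, hl⟩ := uSix_params hU
  have hparts := traces_parts hStep hS hd hz.1 hz.2 hp hq hpq le_rfl ((hC G _).2.1 hU4)
  have hone := part_count hS hd hz.1 hz.2 hk y hy hl
    (N := 126) (fun w hw => rLike_six (hparts w hw)) bad_table.1 (by norm_num)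
  obtain ⟨t, ht⟩ := exists_common hS.rich hd hz.1 hz.2
  exact ⟨d, hd, z, hz.1, hz.2, hU, one_part ht hone ▸ hparts t ht⟩

theorem stepMTwentyTwo (hStep : StepR.{u}) : StepMTwentyTwo.{u} := by
  intro G _ _ D hS d hd hM
  obtain ⟨z, hz⟩ := ThreeTr.exists_not_commute hS.rich.cls hS.rich.two hd
  obtain ⟨hk, hp'⟩ := m22_params (hS.perpPrim d hd) hM
  obtain ⟨p, hp, q, hq, hpq, hU, hR⟩ := id hM
  have hparts := traces_parts hStep hS hd hz.1 hz.2 hp hq hpq (by norm_num) hR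
  have hone := part_count hS hd hz.1 hz.2 hk p hp (hp'.deg p hp)
    (N := 351) (fun w hw => rLike_seven (hparts w hw)) bad_table.2.1 (by norm_num)
  obtain ⟨t, ht⟩ := exists_common hS.rich hd hz.1 hz.2
  exact ⟨d, hd, z, hz.1, hz.2, hM, one_part ht hone ▸ hparts t ht⟩

theorem stepMTwentyThree (hStep : StepR.{u}) : StepMTwentyThree.{u} := by
  intro G _ _ D hS d hd hM
  obtain ⟨z, hz⟩ := ThreeTr.exists_not_commute hS.rich.cls hS.rich.two hd
  obtain ⟨hk, hp'⟩ := m23_params (hS.perpPrim d hd) hM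
  obtain ⟨p, hp, q, hq, hpq, hU, hR⟩ := id hM
  have hparts := traces_parts hStep hS hd hz.1 hz.2 hp hq hpq (by norm_num) hR
  set T := common D d z with hT
  have hthree := part_count hS hd hz.1 hz.2 hk p hp (hp'.deg p hp)
    (N := 1080) (fun w hw => rLike_eight (hparts w hw)) bad_table.2.2 (by norm_num)
  rw [← Nat.card_coe_set_eq] at hthree
  obtain ⟨e⟩ : Nonempty (↥((part T) '' T) ≃ Fin 3) := ⟨Finite.equivFinOfCardEq hthree⟩
  refine ⟨d, hd, z, hz.1, hz.2, hM, fun i => (e.symm i : Set G), ?_, fun i => ?_, fun i j hij x hx y hy hxy => ?_⟩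
  · refine Set.Subset.antisymm (Set.iUnion_subset fun i => ?_) fun w hw => Set.mem_iUnion.2
      ⟨e ⟨part T w, w, hw, rfl⟩, by rw [e.symm_apply_apply]; exact mem_part_self w⟩
    obtain ⟨w, hw, he⟩ := (e.symm i).2
    rw [← he]; exact part_subset hw
  · obtain ⟨w, hw, he⟩ := (e.symm i).2
    show RLike ((e.symm i : Set G)) 8 1
    rw [← he]; exact hparts w hw
  · obtain ⟨a, ha, hea⟩ := (e.symm i).2
    obtain ⟨b, hb, heb⟩ := (e.symm j).2
    have hx' : Joined T a x := (hea.symm ▸ hx : x ∈ part T a)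
    have hy' : Joined T b y := (heb.symm ▸ hy : y ∈ part T b)
    have hab : Joined T a b := (hx'.tail ⟨Joined.mem hb hy', hxy⟩).trans (Joined.symm hb hy')
    refine hij (e.symm.injective (Subtype.ext ?_))
    rw [← hea, ← heb]
    exact Set.ext fun w => ⟨fun h => (Joined.symm ha hab).trans h, fun h => hab.trans h⟩

/-- No class has neighbourhoods of type M(24). -/
theorem exclMTwentyFour : ExclMTwentyFour.{u} := by
  intro G _ _ D hS d hd hM
  obtain ⟨z, hz⟩ := ThreeTr.exists_not_commute hS.rich.cls hS.rich.two hd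
  obtain ⟨p, hp, q, hq, hpq, -, hT⟩ := hM
  set T := common D d z with hTdef
  have hper : ∀ y ∈ T, TriLike (perp T y) ∧ (perp T y).Nonempty := by
    intro y hy
    obtain ⟨f, hf⟩ := exists_ref_iso hS hd hz.1 hz.2 hp hq hpq hy
    refine ⟨hf.triLike hT, ?_⟩
    obtain ⟨P, hP, hR, -⟩ := hf.triLike hT
    obtain ⟨w, hw⟩ := Set.nonempty_of_ncard_ne_zero (s := P 0) (by rw [rLike_eight (hR 0)]; norm_num)
    exact ⟨w, hP ▸ Set.mem_iUnion.2 ⟨0, hw⟩⟩
  obtain ⟨y, hy⟩ := exists_common hS.rich hd hz.1 hz.2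
  have P := part_prim hS.rich (fun x hx => (triLike_good (hper x hx).1 (hper x hx).2).1) hy fun x hx => (hper x hx).2
  obtain ⟨Q, _, _, E, f, hRE, hZ, hf, -⟩ := P.exists_quotient
  have hyC := mem_part_self (T := T) y
  obtain ⟨g, hg⟩ := iso_symm (hf.perp hyC)
  have hTL : TriLike (perp E (f y)) := hg.triLike (by rw [(part_perp hyC hy).2]; exact (hper y hy).1)
  obtain ⟨w, hw⟩ := (hper y hy).2
  have hwC : w ∈ perp (part T y) y := by rw [(part_perp hyC hy).2]; exact hw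
  have hwE := (hf.mem_perp hyC hwC.1).2 hwC
  obtain ⟨hG, hnot⟩ := triLike_good hTL ⟨_, hwE⟩
  obtain ⟨w', hw'⟩ := hG.nbr _ hwE
  exact hnot (perp_joined hRE (hf.mem hyC) hG.vfree ⟨f w, hwE, w', hw'.1, hw'.2.1.symm, hw'.2.2⟩)

end Cfsg.Lib.Fischer.Climb
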