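import Cfsg.Agent.Fischer.Climb.Labels
import Cfsg.Agent.Fischer.Climb.Paths

/-!
The trace of a noncommuting pair: its parts in the commuting graph are primitive sets.
-/

set_option autoImplicit false
set_option linter.unusedSectionVars false

namespace Cfsg.Lib.Fischer.Climb

open Cfsg Subgroup Cfsg.Lib.ThreeTr

universe u

variable {G : Type u} [Group G] [Finite G] {D : Set G} {d c : G}

/-- Inside the trace, the members commuting with one of them are the common neighbours of two neighbours of `d`. -/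
theorem exists_view_iso (hR : Rich D) (hd : d ∈ D) (hc : c ∈ D) (hdc : ¬ Commute d c) {y : G}
    (hy : y ∈ common D d c) : ∃ p ∈ perp D d, ∃ q ∈ perp D d, ¬ Commute p q ∧
      ∃ f, GraphIso (perp (common D d c) y) (common (perp D d) p q) f := by
  obtain ⟨g, -, hp, hq, hpq, -, hiff⟩ := exists_view hR hd hc hdc hy
  refine ⟨_, hp, _, hq, hpq, fun e => g * e * g⁻¹, ⟨fun e he => ?_, (conj_image_injective g).injOn, fun z hz => ?_⟩,
    fun a _ b _ => conj_commute_iff g a b⟩
  · exact (hiff e).2 ⟨he.1, he.1.1.1, he.2.1, he.2.2⟩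
  · refine ⟨g⁻¹ * z * g, ?_, by group⟩
    have h := (hiff (g⁻¹ * z * g)).1 (by rwa [show g * (g⁻¹ * z * g) * g⁻¹ = z by group])
    exact ⟨h.1, h.2.2.1, h.2.2.2⟩

/-- The common neighbours of a reference pair tell about every member of the trace. -/
theorem exists_ref_iso (hS : Setting D) (hd : d ∈ D) (hc : c ∈ D) (hdc : ¬ Commute d c) {p q : G}
    (hp : p ∈ perp D d) (hq : q ∈ perp D d) (hpq : ¬ Commute p q) {y : G} (hy : y ∈ common D d c) :
    ∃ f, GraphIso (perp (common D d c) y) (common (perp D d) p q) f := by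
  obtain ⟨a, ha, b, hb, hab, f, hf⟩ := exists_view_iso hS.rich hd hc hdc hy
  obtain ⟨h, hh⟩ := exists_iso_common (hS.perpPrim d hd) ha hb hab hp hq hpq
  exact ⟨_, iso_trans hf hh⟩

theorem common_closed (hR : Rich D) {x y : G} (hx : x ∈ common D d c) (hy : y ∈ common D d c) :
    x * y * x ∈ common D d c :=
  ⟨perp_closed hR.cls hx.1 hy.1, perp_closed hR.cls hx.2 hy.2⟩

/-- The part of the trace joined to `y`. -/
def part (T : Set G) (y : G) : Set G := {z | Joined T y z}

theorem part_subset {T : Set G} {y : G} (hy : y ∈ T) : part T y ⊆ T := fun _ h => Joined.mem hy h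

theorem mem_part_self {T : Set G} (y : G) : y ∈ part T y := Relation.ReflTransGen.refl

theorem part_perp {T : Set G} {y z : G} (hz : z ∈ part T y) (hy : y ∈ T) :
    perp T z ⊆ part T y ∧ perp (part T y) z = perp T z := by
  have h1 : perp T z ⊆ part T y := fun w hw => Relation.ReflTransGen.tail hz ⟨hw.1, hw.2.2⟩
  exact ⟨h1, Set.ext fun w => ⟨fun h => ⟨part_subset hy h.1, h.2⟩, fun h => ⟨h1 h, h.2⟩⟩⟩

/-- If the members commuting with each one form a good set, the parts of the trace are primitive. -/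
theorem part_prim (hR : Rich D) (hg : ∀ x ∈ common D d c, Good (perp (common D d c) x)) {y : G}
    (hy : y ∈ common D d c) (hnbr : ∀ x ∈ common D d c, (perp (common D d c) x).Nonempty) :
    Prim (part (common D d c) y) := by
  set T := common D d c with hT
  set C := part T y with hC
  have hsub : C ⊆ T := part_subset hy
  have hD := hR.cls
  have htr : IsThreeTranspositionSet C :=
    ⟨fun x hx => hD.1.1 x (hsub hx).1.1, fun x hx z hz => hD.1.2 x (hsub hx).1.1 z (hsub hz).1.1⟩
  have hedge : ∀ {x z}, x ∈ C → z ∈ perp T x → Relation.ReflTransGen (StepIn C) x z := by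
    intro x z hx hz
    obtain ⟨w, hw⟩ := (hg x (hsub hx)).nbr z hz
    have hxw : w ∈ C := (part_perp hx hy).1 hw.1
    have hsubw : perp T w ⊆ C := (part_perp hxw hy).1
    refine Relation.ReflTransGen.mono (fun a b h => ⟨hsubw h.1, hsubw h.2.1, h.2.2⟩) _ _
      ((hg w (hsub hxw)).link x ⟨hsub hx, hw.1.2.1.symm, hw.1.2.2.symm⟩ z ⟨hz.1, hw.2.1.symm, hw.2.2.symm⟩)
  have hlink : ∀ z ∈ C, Relation.ReflTransGen (StepIn C) y z := by
    intro z hz
    induction hz with
    | refl => exact Relation.ReflTransGen.refl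
    | @tail a b hab hbc ih =>
      rcases eq_or_ne b a with rfl | hne
      · exact ih
      · exact ih.trans (hedge hab ⟨hbc.1, hne, hbc.2⟩)
  refine ⟨htr, fun x hx z hz => ?_, fun x hx z hz => (step_symm (hlink x hx)).trans (hlink z hz),
    fun a ha b hb h => ?_, fun a ha b hb h => ?_, fun a ha b hb => ?_, ?_⟩
  · show Joined T y (x * z * x)
    have hxz : Joined T x z := (Joined.symm hy hx).trans hz
    have h2 := sq_eq_one htr hx
    have hlift : Joined T (x * x * x) (x * z * x) := by
      refine hxz.lift (fun u => x * u * x) fun u v huv => ⟨common_closed hR (hsub hx) huv.1, ?_⟩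
      have := (conj_commute_iff x u v).2 huv.2
      rwa [inv_eq htr hx] at this
    rw [mul_assoc x x x, h2, mul_one] at hlift
    exact hx.trans hlift
  · by_contra hne
    have hc : Commute a b := ((h a ha).1 (Commute.refl a)).symm
    have hb' : b ∈ perp T a := ⟨hsub hb, fun e => hne e.symm, hc⟩
    obtain ⟨e, he, hbe⟩ := (hg a (hsub ha)).sep b hb'
    exact hbe ((h e ((part_perp ha hy).1 he)).1 he.2.2)
  · by_contra hne
    by_cases hc : Commute a b
    · exact ((h b hb).1 ⟨fun e => hne e.symm, hc⟩).1 rfl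
    obtain ⟨w, hw⟩ := hnbr a (hsub ha)
    have hwC := (part_perp ha hy).1 hw
    have hbw : w ≠ b ∧ Commute b w := (h w hwC).1 hw.2
    have haw' : a ∈ perp T w := ⟨hsub ha, hw.2.1.symm, hw.2.2.symm⟩
    have hbw' : b ∈ perp T w := ⟨hsub hb, hbw.1.symm, hbw.2.symm⟩
    exact hne ((hg w (hsub hwC)).wfree a haw' b hbw' fun e he => h e ((part_perp hwC hy).1 he))
  · have hab : Joined T a b := (Joined.symm hy ha).trans hb
    suffices ∀ z, Joined T a z → z ∈ C ∧ Relation.ReflTransGen (fun u v => v ∈ C ∧ Commute u v) a z from (this b hab).2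
    intro z hz
    induction hz with
    | refl => exact ⟨ha, Relation.ReflTransGen.refl⟩
    | @tail u v _ huv ih => exact ⟨ih.1.tail huv, ih.2.tail ⟨ih.1.tail huv, huv.2⟩⟩
  · obtain ⟨w, hw⟩ := hnbr y hy
    exact ⟨y, mem_part_self y, w, (part_perp (mem_part_self y) hy).1 hw, hw.2.1.symm, hw.2.2⟩

/-- The parts are reflection classes in one dimension more, so the trace has a whole number of their size. -/
theorem exists_parts (hStep : StepR.{u}) (hR : Rich D) {n : ℕ} (hn : 5 ≤ n)
    (hper : ∀ y ∈ common D d c, RLike (perp (common D d c) y) n 1) :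
    ∀ y ∈ common D d c, RLike (part (common D d c) y) (n + 1) 1 := by
  intro y hy
  have hg : ∀ x ∈ common D d c, Good (perp (common D d c) x) := fun x hx => (rLike_good hn (hper x hx)).1
  have hnbr : ∀ x ∈ common D d c, (perp (common D d c) x).Nonempty := fun x hx => by
    obtain ⟨B, hs, hB, -, f, hf⟩ := hper x hx
    obtain ⟨u, -, hu⟩ := exists_value hs hB (e := Fin.elim0) ⟨fun i => i.elim0, fun i => i.elim0⟩ (by omega)
      (a := 1) one_ne_zero
    obtain ⟨z, hz, -⟩ := rLike_pre hf hu
    exact ⟨z, hz⟩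
  have P := part_prim hR hg hy hnbr
  obtain ⟨Q, _, _, E, f, hRE, hZ, hf, -⟩ := P.exists_quotient
  have hyC := mem_part_self (T := common D d c) y
  obtain ⟨h, hh⟩ := iso_symm (hf.perp hyC)
  have hRL : RLike (perp E (f y)) n 1 := hh.rLike (by rw [(part_perp hyC hy).2]; exact hper y hy)
  have hE := hRE.cls
  obtain ⟨hG, hJ⟩ := rLike_good hn hRL
  obtain ⟨z, hz⟩ := hnbr y hy
  have hzC : z ∈ perp (part (common D d c) y) y := by rw [(part_perp hyC hy).2]; exact hz
  obtain ⟨w, hw⟩ := hG.nbr (f z) ((hf.mem_perp hyC hzC.1).2 hzC)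
  have PE : Prim (perp E (f y)) :=
    ⟨⟨fun x hx => hE.1.1 x hx.1, fun x hx z hz => hE.1.2 x hx.1 z hz.1⟩, fun a ha b hb => perp_closed hE ha hb,
      hG.link, hG.vfree, hG.wfree, hJ, f z, (hf.mem_perp hyC hzC.1).2 hzC, w, hw.1, hw.2.1.symm, hw.2.2⟩
  exact hf.rLike (hStep Q E (setting_of_prim hRE hZ (hf.mem hyC) PE) (f y) (hf.mem hyC) n 1 hn hRL)

/-- The trace has a whole number of parts. -/
theorem exists_count {T : Set G} {N : ℕ} (hcard : ∀ y ∈ T, (part T y).ncard = N) :
    ∃ j, T.ncard = j * N ∧ ((part T) '' T).ncard = j := by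
  classical
  haveI : Fintype G := Fintype.ofFinite G
  haveI : Fintype (Set G) := Fintype.ofFinite _
  refine ⟨((part T) '' T).ncard, ?_, rfl⟩
  rw [Set.ncard_eq_toFinset_card' T, Set.ncard_eq_toFinset_card', Set.toFinset_image,
    Finset.card_eq_sum_card_image (part T) T.toFinset]
  rw [Finset.sum_congr rfl (fun C hC => ?_), Finset.sum_const, smul_eq_mul]
  obtain ⟨y, hy, rfl⟩ := Finset.mem_image.1 hC
  rw [Set.mem_toFinset] at hy
  rw [← hcard y hy, ← Set.ncard_coe_finset]
  congr 1
  ext z
  simp only [Finset.coe_filter, Set.mem_toFinset, Set.mem_ofPred_eq]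
  constructor
  · rintro ⟨-, h⟩; rw [← h]; exact mem_part_self z
  · intro h
    exact ⟨part_subset hy h, Set.ext fun w =>
      ⟨fun h' => (show Joined T y z from h).trans h', fun h' => (Joined.symm hy h).trans h'⟩⟩

end Cfsg.Lib.Fischer.Climb
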